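import Groth.Agent.PBC.Betti
import Groth.Agent.HilbStrat.Uniform
import Groth.Agent.QuotRep.ZeroLocus
import Groth.Agent.AVEuler.FibreRank
import Groth.Agent.AVRosati.DivPos
import Groth.Agent.InvX.GenLocusPull
import Groth.Agent.NumTau.Fam

/-!
# Without first cohomology invertible modules do not move in families
-/

set_option autoImplicit false
set_option linter.style.haveILetI false
set_option linter.unusedSectionVars false
set_option backward.isDefEq.respectTransparency false
set_option backward.isDefEq.respectTransparency.types false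
set_option maxHeartbeats 1000000
set_option synthInstance.maxHeartbeats 400000
attribute [-instance] CategoryTheory.catToReflQuiver

universe u

open CategoryTheory CategoryTheory.Limits AlgebraicGeometry TopologicalSpace Opposite
open Groth.Agent.H23.PicMul
open scoped TensorProduct

noncomputable section

namespace Groth.Agent.PicRig

open Groth.Agent

/-- A section whose pullback is a frame generates over the image. -/
theorem mem_genLocus_of_isFrame_pullElt {X Y : Scheme.{u}} (u : Y ⟶ X) {M : X.Modules} (hM : PicF.IsInvertible M)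
    (s : Coh.structureModule X ⟶ M)
    (h : InvX.IsFrame (show Γ((Scheme.Modules.pullback u).obj M, (⊤ : Y.Opens)) from
      InvX.pullElt u (U := ⊤) (InvX.one s))) (y : Y) :
    u y ∈ CohB1.genLocus M s := by
  obtain ⟨U, hyU, ε, hε⟩ := InvX.exists_frame hM (u y)
  obtain ⟨g, hg⟩ := hε.exists_coord le_rfl (AModX.res M (le_top : U ≤ ⊤) (InvX.one s))
  rw [AModX.res_self] at hg
  have hb : u y ∈ X.basicOpen g := by
    have hpre : y ∈ Y.basicOpen (u.app U g) := by
      let x : Γ((Scheme.Modules.pullback u).obj M, (⊤ : Y.Opens)) := InvX.pullElt u (U := ⊤) (InvX.one s)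
      have hx : AModX.res _ (le_top : u ⁻¹ᵁ U ≤ ⊤) (InvX.one (InvX.ofSect x)) = u.app U g • InvX.pullElt u ε := by
        rw [InvX.one_ofSect, ← InvX.pullElt_smul, ← hg]
        exact InvX.res_pullElt u (le_top : U ≤ ⊤) (InvX.one s)
      have h1 : y ∈ CohB1.genLocus _ (InvX.ofSect x) :=
        InvX.le_genLocus (InvX.ofSect x) (U := ⊤) (by rw [InvX.one_ofSect, AModX.res_self]; exact h) trivial
      exact (InvX.genLocus_inf (InvX.ofSect x) (InvX.isFrame_pullElt u hε) hx).le ⟨h1, hyU⟩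
    rw [← Scheme.preimage_basicOpen] at hpre
    exact hpre
  exact ((InvX.genLocus_inf s hε hg).ge hb).1

variable {k : Type u} [Field k]

/-- A family which is trivial on a fibre without first cohomology is trivial near it. -/
theorem exists_nhd_triv {P T Z : Scheme.{u}} [Z.Over (Spec (CommRingCat.of k))]
    [IsProper (Z ↘ Spec (CommRingCat.of k))] (pr : P ⟶ T) [IsProper pr] [Flat pr] [LocallyOfFinitePresentation pr]
    {D : P.Modules} (hD : PicF.IsInvertible D) {σ : Z ⟶ P} {u : Spec (CommRingCat.of k) ⟶ T}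
    (h : IsPullback σ (Z ↘ Spec (CommRingCat.of k)) pr u) (ρ : T ⟶ Spec (CommRingCat.of k)) (hu : u ≫ ρ = 𝟙 _)
    (e : Coh.structureModule Z ≅ (Scheme.Modules.pullback σ).obj D)
    (h1 : Subsingleton (Coh.HH Z (Coh.structureModule Z) 1)) :
    ∃ W : T.Opens, u (IsLocalRing.closedPoint k) ∈ W ∧ ∀ {Z' : Scheme.{u}} (σ' : Z' ⟶ P),
      (∀ z, pr (σ' z) ∈ W) → Nonempty ((Scheme.Modules.pullback σ').obj D ≅ Coh.structureModule Z') := by
  classical
  let y := u (IsLocalRing.closedPoint k)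
  have hfp : CohB1.IsFP D := QCoh.isFP_of_isFinLocFree (H23.PullPush.isFinLocFree_of_isInvertible hD)
  have hfl : FlatMod.IsFlatOver pr D := H23.Seesaw.isFlatOver_of_isInvertible pr hD
  have hy : CohIII.fiberRank pr D 1 y < 1 := by
    rw [AVEuler.fiberRank_eq_finrank h ρ hu (ProjUPX.isQCoh_of_isInvertible hD) 1]
    haveI : Subsingleton (Coh.HH Z ((Scheme.Modules.pullback σ).obj D) 1) := QCoh.subsingleton_HH_of_iso e 1 h1
    rw [Module.finrank_zero_of_subsingleton]
    exact one_pos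
  obtain ⟨_, ⟨V, hV, rfl⟩, hyV, hVS⟩ := T.isBasis_affineOpens.exists_subset_of_mem_open
    (show y ∈ {s : T | CohIII.fiberRank pr D 1 s < 1} from hy) (PBC.isOpen_fiberRank_lt pr D hfp hfl 1 1)
  let q := pullback.fst pr hV.fromSpec
  let π := pullback.snd pr hV.fromSpec
  have hDq := PicClLib.isInvertible_pullback q hD
  have hvan : ∀ s, CohIII.fiberRank π ((Scheme.Modules.pullback q).obj D) 1 s = 0 := fun s => by
    rw [PBC.fiberRank_bc (IsPullback.of_hasPullback pr hV.fromSpec) (ProjUPX.isQCoh_of_isInvertible hD) 1 s]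
    exact Nat.lt_one_iff.1 (hVS (hV.range_fromSpec.le ⟨s, rfl⟩))
  have hur : Set.range u ⊆ Set.range hV.fromSpec := by
    rintro _ ⟨x, rfl⟩
    rw [Subsingleton.elim x (IsLocalRing.closedPoint k), hV.range_fromSpec]
    exact hyV
  let u' := IsOpenImmersion.lift hV.fromSpec u hur
  have hu' : u' ≫ hV.fromSpec = u := IsOpenImmersion.lift_fac _ _ _
  let ψ : Γ(T, V) →+* k := (Spec.preimage u').hom
  have hψ : Spec.map (CommRingCat.ofHom ψ) = u' := Spec.map_preimage u'
  have hψs : Function.Surjective ψ := by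
    let φ : CommRingCat.of k ⟶ Γ(T, V) := Spec.preimage (hV.fromSpec ≫ ρ)
    have hid : φ ≫ CommRingCat.ofHom ψ = 𝟙 _ := Spec.map_injective (by
      rw [Spec.map_comp, Spec.map_id, hψ, Spec.map_preimage, ← Category.assoc, hu', hu])
    exact fun a => ⟨φ.hom a, congr(($hid).hom a)⟩
  let g : Z ⟶ pullback pr hV.fromSpec := pullback.lift σ ((Z ↘ Spec (CommRingCat.of k)) ≫ u')
    (by rw [h.w, Category.assoc, hu'])
  have hgq : g ≫ q = σ := pullback.lift_fst _ _ _
  have hsq : IsPullback g (Z ↘ Spec (CommRingCat.of k)) π (Spec.map (CommRingCat.ofHom ψ)) := by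
    rw [hψ]
    refine IsPullback.of_right ?_ (pullback.lift_snd _ _ _) (IsPullback.of_hasPullback pr hV.fromSpec)
    show IsPullback (g ≫ q) _ _ (u' ≫ hV.fromSpec)
    rw [hgq, hu']
    exact h
  let D' := (Scheme.Modules.pullback q).obj D
  let e' : Coh.structureModule Z ≅ (Scheme.Modules.pullback g).obj D' :=
    e ≪≫ (Scheme.Modules.pullbackCongr hgq.symm).app D ≪≫ ((Scheme.Modules.pullbackComp g q).app D).symm
  let x : Γ((Scheme.Modules.pullback g).obj D', (⊤ : Z.Opens)) := e'.hom.app ⊤ (1 : Γ(Z, ⊤))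
  have hx : InvX.IsFrame x := InvX.IsFrame.map_iso e' (InvX.genLocus_pullback.isFrame_one' Z)
  letI : (pullback pr hV.fromSpec).Over (Spec (CommRingCat.of Γ(T, V))) := ⟨π⟩
  letI := QCoh.secModule (Coh.toGlobal π) D' (⊤ : (pullback pr hV.fromSpec).Opens)
  letI := QCoh.secModule (Coh.toGlobal (Z ↘ Spec (CommRingCat.of k))) ((Scheme.Modules.pullback g).obj D') (⊤ : Z.Opens)
  letI := ψ.toAlgebra
  have hfl' : FlatMod.IsFlatOver π D' := H23.Seesaw.isFlatOver_of_isInvertible π hDq
  have hfp' : CohB1.IsFP D' := QCoh.isFP_of_isFinLocFree (H23.PullPush.isFinLocFree_of_isInvertible hDq)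
  have hb : Function.Bijective (PBC.sectionsBC ψ g hsq (F := D')) :=
    HilbStrat.secBij_of_flatOver hsq hfp' hfl' hvan
  obtain ⟨z, hz⟩ := hb.2 x
  have hall : ∀ z : k ⊗[Γ(T, V)] Γ(D', ⊤), ∃ m, ((1 : k) ⊗ₜ[Γ(T, V)] m : k ⊗[Γ(T, V)] Γ(D', ⊤)) = z := fun z => by
    induction z using TensorProduct.induction_on with
    | zero => exact ⟨0, TensorProduct.tmul_zero _ _⟩
    | tmul c m =>
      obtain ⟨b, rfl⟩ := hψs c
      refine ⟨b • m, ?_⟩
      rw [← TensorProduct.smul_tmul, Algebra.smul_def, mul_one]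
      rfl
    | add a b ha hb =>
      obtain ⟨m, rfl⟩ := ha
      obtain ⟨m', rfl⟩ := hb
      exact ⟨m + m', TensorProduct.tmul_add _ _ _⟩
  obtain ⟨m, rfl⟩ := hall z
  rw [HilbStrat.sectionsBC_one_tmul ψ g hsq D' m] at hz
  let τ : Coh.structureModule (pullback pr hV.fromSpec) ⟶ D' := InvX.ofSect m
  have hgen : ∀ z, g z ∈ CohB1.genLocus D' τ := by
    refine mem_genLocus_of_isFrame_pullElt g hDq τ ?_
    rw [InvX.one_ofSect]
    have hps : QCoh.pullSec g D' (le_top : (⊤ : Z.Opens) ≤ g ⁻¹ᵁ ⊤) m =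
        (show Γ((Scheme.Modules.pullback g).obj D', (⊤ : Z.Opens)) from InvX.pullElt g (U := ⊤) m) :=
      QCoh.map_id' (M := (Scheme.Modules.pullback g).obj D') (U := (⊤ : Z.Opens)) (homOfLE le_top) _
    rw [← hps, hz]
    exact hx
  haveI : IsProper π := inferInstanceAs (IsProper (pullback.snd pr hV.fromSpec))
  let B : Set (Spec Γ(T, V)) := (π '' (CohB1.genLocus D' τ : Set _)ᶜ)ᶜ
  have hB : IsOpen B := (π.isClosedMap _ (CohB1.genLocus D' τ).2.isClosed_compl).isOpen_compl
  refine ⟨hV.fromSpec ''ᵁ ⟨B, hB⟩, ⟨u' (IsLocalRing.closedPoint k), ?_, ?_⟩, fun {Z'} σ' hσ' => ?_⟩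
  · rintro ⟨w, hw, hwe⟩
    have hw' : w ∈ Set.range g := by
      rw [← hsq.isoPullback_hom_fst, Scheme.Hom.comp_base, TopCat.coe_comp, Set.range_comp, Set.range_eq_univ.2 hsq.isoPullback.hom.surjective, Set.image_univ,
        Scheme.Pullback.range_fst, hψ]
      exact ⟨IsLocalRing.closedPoint k, hwe.symm⟩
    obtain ⟨z, rfl⟩ := hw'
    exact hw (hgen z)
  · exact congr(($hu').base (IsLocalRing.closedPoint k))
  have hr : Set.range (σ' ≫ pr) ⊆ Set.range hV.fromSpec := by
    rintro _ ⟨z, rfl⟩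
    obtain ⟨b, -, hb'⟩ := hσ' z
    exact ⟨b, hb'⟩
  let l := IsOpenImmersion.lift hV.fromSpec (σ' ≫ pr) hr
  let g' : Z' ⟶ pullback pr hV.fromSpec := pullback.lift σ' l (IsOpenImmersion.lift_fac _ _ _).symm
  have hgq' : g' ≫ q = σ' := pullback.lift_fst _ _ _
  have hgen' : ∀ z, g' z ∈ CohB1.genLocus D' τ := fun z => by
    by_contra hn
    obtain ⟨b, hb, hb'⟩ := hσ' z
    refine hb ⟨g' z, hn, hV.fromSpec.isOpenEmbedding.injective ?_⟩
    refine (Eq.trans ?_ hb'.symm)
    rw [← Scheme.Hom.comp_apply, ← pullback.condition, Scheme.Hom.comp_apply]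
    exact congrArg pr congr(($hgq').base z)
  obtain ⟨e₀⟩ := PicClLib.nonempty_pullback_structureModule g'
  have htop : CohB1.genLocus _ (e₀.inv ≫ (Scheme.Modules.pullback g').map τ) = ⊤ := by
    rw [show e₀.inv = e₀.symm.hom from rfl, InvX.genLocus_pullback g' hDq τ e₀.symm]
    exact top_le_iff.1 fun z _ => hgen' z
  haveI := AVRosati.isIso_of_genLocus_eq_top _ htop
  exact ⟨((Scheme.Modules.pullbackCongr hgq'.symm).app D ≪≫ ((Scheme.Modules.pullbackComp g' q).app D).symm) ≪≫
    (asIso (e₀.inv ≫ (Scheme.Modules.pullback g').map τ)).symm⟩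

end Groth.Agent.PicRig

end
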