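import Groth.Agent.FamEuler.Main
import Groth.Agent.PBC.Betti
import Groth.Agent.QuotRep.BdAux
import Groth.Agent.QuotRep.ZeroLocusApps
import Groth.Agent.AmpleX.RelAffine
import Groth.Agent.S2332
import Groth.Agent.Pencil.ChiCond
import Groth.Agent.ThmA.Cor
import Groth.Agent.S4278

/-!
# Numerical triviality in a flat family with integral fibres
-/

set_option autoImplicit false
set_option linter.style.haveILetI false
set_option linter.unusedSectionVars false
set_option backward.isDefEq.respectTransparency false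
set_option backward.isDefEq.respectTransparency.types false
set_option maxHeartbeats 1000000
set_option synthInstance.maxHeartbeats 400000
attribute [-instance] CategoryTheory.catToReflQuiver

universe u

open CategoryTheory CategoryTheory.Limits AlgebraicGeometry TopologicalSpace Opposite
open Groth.Agent.H23.PicMul

noncomputable section

namespace Groth.Agent.PicRig

open Groth.Agent

variable {X S : Scheme.{u}} (f : X ⟶ S) [IsProper f]

/-- The fibre Euler characteristic at a field-valued point. -/
theorem euler_pullback {N : X.Modules} (hN : Coh.IsQCoh N) {Ω : Type u} [Field Ω]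
    (σ : Spec (CommRingCat.of Ω) ⟶ S) :
    @Curv2.euler Ω _ (pullback f σ) ⟨pullback.snd f σ⟩ ((Scheme.Modules.pullback (pullback.fst f σ)).obj N) =
      FamEuler.fibreEuler f N (σ (IsLocalRing.closedPoint Ω)) := by
  letI : (pullback f σ).Over (Spec (CommRingCat.of Ω)) := ⟨pullback.snd f σ⟩
  haveI : IsProper (pullback.snd f σ) := inferInstance
  refine finsum_congr fun i => ?_
  rw [← PBC.fiberRank_bc (IsPullback.of_hasPullback f σ) hN i (IsLocalRing.closedPoint Ω),
    QuotRep.fiberRank_field (b := pullback.snd f σ) (QCoh.isQCoh_pullback _ hN) i]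

/-- With integral projective fibres τ-triviality is an equality of fibre Euler characteristics. -/
theorem tau_iff {H H' L : X.Modules} (hH : RelAmple.IsRelAmple f H) (hHi : PicF.IsInvertible H)
    (hH' : PicF.IsInvertible H') (hHH' : PicF.cl H * PicF.cl H' = 1) (hL : PicF.IsInvertible L)
    (hint : ∀ (Ω : Type u) [Field Ω] [IsAlgClosed Ω] (σ : Spec (CommRingCat.of Ω) ⟶ S), IsIntegral (pullback f σ))
    (s : S) :
    Pic13.IsTauTrivialAt f L s ↔ ∀ a b : ℕ,
      FamEuler.fibreEuler f (CohB1.tensorMod (CohB1.tensorPow L a) (CohB1.tensorPow H' b)) s =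
        FamEuler.fibreEuler f (CohB1.tensorPow H' b) s := by
  have hT : ∀ a b, PicF.IsInvertible (CohB1.tensorMod (CohB1.tensorPow L a) (CohB1.tensorPow H' b)) := fun a b =>
    InvX.isInvertible_tensorMod (InvX.isInvertible_tensorPow hL a) (InvX.isInvertible_tensorPow hH' b)
  have key : ∀ (Ω : Type u) [Field Ω] [IsAlgClosed Ω] (σ : Spec (CommRingCat.of Ω) ⟶ S), Set.range σ.base = {s} →
      ((∀ a b : ℕ, FamEuler.fibreEuler f (CohB1.tensorMod (CohB1.tensorPow L a) (CohB1.tensorPow H' b)) s =
        FamEuler.fibreEuler f (CohB1.tensorPow H' b) s) ↔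
      @Pic13.IsTauEquivZero Ω _ (pullback f σ) ⟨pullback.snd f σ⟩ ((Scheme.Modules.pullback (pullback.fst f σ)).obj L)) := by
    intro Ω _ _ σ hσ
    letI : (pullback f σ).Over (Spec (CommRingCat.of Ω)) := ⟨pullback.snd f σ⟩
    haveI : IsProper ((pullback f σ) ↘ Spec (CommRingCat.of Ω)) := inferInstanceAs (IsProper (pullback.snd f σ))
    haveI : IsIntegral (pullback f σ) := hint Ω σ
    haveI := CurveCohLib.isNoetherian_of_proper (k := Ω) (X := pullback f σ)
    set p := pullback.fst f σ
    have hs : σ (IsLocalRing.closedPoint Ω) = s := hσ.le ⟨_, rfl⟩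
    have hLΩ := PicClLib.isInvertible_pullback p hL
    have hH'Ω := PicClLib.isInvertible_pullback p hH'
    have hAmp : CohB1.IsAmple ((Scheme.Modules.pullback p).obj H) :=
      (AmpleX.isRelAmple_iff_isAmple (pullback.snd f σ) _).1 (S2332.result f σ H hH)
    have hmul : PicF.cl ((Scheme.Modules.pullback p).obj H) * PicF.cl ((Scheme.Modules.pullback p).obj H') = 1 :=
      Big.cl_pull_one p hHH'
    have hE : ∀ {N : X.Modules} {N' : (pullback f σ).Modules}, PicF.IsInvertible N →
        PicF.cl ((Scheme.Modules.pullback p).obj N) = PicF.cl N' →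
        FamEuler.fibreEuler f N s = Curv2.euler Ω (pullback f σ) N' := fun {N N'} hN h => by
      rw [← hs, ← euler_pullback f (ProjUPX.isQCoh_of_isInvertible hN) σ]
      exact CurveCohLib.euler_congr (k := Ω) (cl_eq_iff.1 h).some
    have hE1 : ∀ a b : ℕ, FamEuler.fibreEuler f (CohB1.tensorMod (CohB1.tensorPow L a) (CohB1.tensorPow H' b)) s =
        Curv2.euler Ω (pullback f σ) (CohB1.tensorMod (CohB1.tensorPow ((Scheme.Modules.pullback p).obj L) a)
          (CohB1.tensorPow ((Scheme.Modules.pullback p).obj H') b)) := fun a b => hE (hT a b) (by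
      show PicF.pullCl p (PicF.cl (CohB1.tensorMod _ _)) = _
      rw [cl_tensor, cl_tensor, cl_tensorPow L, cl_tensorPow H', cl_tensorPow _ a, cl_tensorPow _ b, pullCl_mul,
        pullCl_pow, pullCl_pow]
      rfl)
    have hE2 : ∀ b : ℕ, FamEuler.fibreEuler f (CohB1.tensorPow H' b) s =
        Curv2.euler Ω (pullback f σ) (CohB1.tensorPow ((Scheme.Modules.pullback p).obj H') b) := fun b =>
      hE (InvX.isInvertible_tensorPow hH' b) (by
      show PicF.pullCl p (PicF.cl _) = _
      rw [cl_tensorPow H', cl_tensorPow _ b, pullCl_pow]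
      rfl)
    simp only [hE1, hE2]
    constructor
    · intro h
      obtain ⟨d, hd⟩ := ShStabLib.exists_dim_le_proper Ω (pullback f σ)
      obtain ⟨e, -, he⟩ := Big.dim_nat_of_le (X := pullback f σ) (d := d)
        ((Homeomorph.Set.univ _).isHomeomorph.topologicalKrullDim_eq.symm.le.trans (hd Set.univ))
      exact ThmA.isTauEquivZero_of_nt_proper (NumTau.nt_of_numEquivZero hLΩ
        (Pencil.isNumEquivZero_of_numTriv hLΩ (Pencil.numTriv_of_euler Ω hAmp hH'Ω hmul hLΩ he h)))
    · intro h a b
      have hn := NumTau.nt_of_numEquivZero hLΩ (S4278.result Ω (pullback f σ) _ hLΩ h)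
      rw [← NumTau.euler_eq_proper (k := Ω) (AmpleVan.isCoh_invertible (InvX.isInvertible_tensorPow hH'Ω b)) (hn.pow a)]
      exact CurveCohLib.euler_congr (k := Ω) (H23.PicMul.comm _ _).some
  constructor
  · intro h
    let Ω := AlgebraicClosure (S.residueField s)
    let σ : Spec (CommRingCat.of Ω) ⟶ S :=
      Spec.map (CommRingCat.ofHom (algebraMap (S.residueField s) Ω)) ≫ S.fromSpecResidueField s
    have hσ : Set.range σ.base = {s} := by
      refine Set.eq_singleton_iff_unique_mem.2 ⟨⟨IsLocalRing.closedPoint Ω, ?_⟩, ?_⟩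
      · exact S.fromSpecResidueField_apply s _
      · rintro _ ⟨z, rfl⟩
        exact S.fromSpecResidueField_apply s _
    exact (key Ω σ hσ).2 (h Ω σ hσ)
  · intro h Ω _ _ σ hσ
    exact (key Ω σ hσ).1 h

end Groth.Agent.PicRig

end
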