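import Groth.Agent.PicRig.Rigid
import Groth.Agent.ThmA.Cor
import Groth.Agent.NumTau.Proper
import Groth.Agent.ParaFX.PicField
import Groth.Agent.CohBasic.EulerBC

/-!
# Numerically trivial classes are torsion without first cohomology
-/

set_option autoImplicit false
set_option linter.style.haveILetI false
set_option linter.unusedSectionVars false
set_option backward.isDefEq.respectTransparency false
set_option backward.isDefEq.respectTransparency.types false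
set_option maxHeartbeats 1000000
attribute [-instance] CategoryTheory.catToReflQuiver

universe u

open CategoryTheory CategoryTheory.Limits AlgebraicGeometry TopologicalSpace Opposite
open Groth.Agent.H23.PicMul

noncomputable section

namespace Groth.Agent.PicRig

open Groth.Agent

section Closed

variable {k : Type u} [Field k] [IsAlgClosed k] {X : Scheme.{u}} [X.Over (Spec (CommRingCat.of k))]
  [IsProper (X ↘ Spec (CommRingCat.of k))]

/-- A connected family has only one member when there is no first cohomology. -/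
theorem cl_eq_of_mem (h1 : Subsingleton (Coh.HH X (Coh.structureModule X) 1)) (𝔽 : NumTau.Fam k X)
    {L L' : X.Modules} (h : 𝔽.Mem L) (h' : 𝔽.Mem L') : PicF.cl L = PicF.cl L' := by
  classical
  haveI := 𝔽.conn; haveI := 𝔽.lft; haveI := 𝔽.qc
  haveI : IsLocallyNoetherian 𝔽.T := LocallyOfFiniteType.isLocallyNoetherian 𝔽.q
  haveI : JacobsonSpace 𝔽.T := LocallyOfFiniteType.jacobsonSpace 𝔽.q
  let pr : Pic13.prodK k X 𝔽.q ⟶ 𝔽.T := pullback.snd (X ↘ Spec (CommRingCat.of k)) 𝔽.q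
  let p₁ : Pic13.prodK k X 𝔽.q ⟶ X := pullback.fst (X ↘ Spec (CommRingCat.of k)) 𝔽.q
  haveI : Flat (X ↘ Spec (CommRingCat.of k)) := by
    haveI : Subsingleton ↥(Spec (CommRingCat.of k)) := inferInstanceAs (Subsingleton (PrimeSpectrum k))
    infer_instance
  haveI : IsProper pr := inferInstanceAs (IsProper (pullback.snd (X ↘ Spec (CommRingCat.of k)) 𝔽.q))
  haveI : Flat pr := inferInstanceAs (Flat (pullback.snd (X ↘ Spec (CommRingCat.of k)) 𝔽.q))
  haveI : LocallyOfFinitePresentation pr := NumTau.lfp_of_lft pr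
  have hcl : ∀ (a : Spec (CommRingCat.of k) ⟶ 𝔽.T) (ha : a ≫ 𝔽.q = 𝟙 _) (N : X.Modules),
      PicF.cl (Pic13.fibreMod k X 𝔽.q a ha (CohB1.tensorMod 𝔽.M ((Scheme.Modules.pullback p₁).obj N))) =
        PicF.cl (Pic13.fibreMod k X 𝔽.q a ha 𝔽.M) * PicF.cl N := fun a ha N => by
    show PicF.pullCl (Pic13.sliceAt k X 𝔽.q a ha) (PicF.cl (CohB1.tensorMod 𝔽.M _)) = _
    rw [cl_tensor, pullCl_mul, show PicF.cl ((Scheme.Modules.pullback p₁).obj N) = PicF.pullCl p₁ (PicF.cl N) from rfl,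
      ← PicLoc.pullCl_comp, show Pic13.sliceAt k X 𝔽.q a ha ≫ p₁ = 𝟙 X from pullback.lift_fst _ _ _,
      PicClLib.pullCl_id]
    rfl
  have key : ∀ (a : Spec (CommRingCat.of k) ⟶ 𝔽.T) (ha : a ≫ 𝔽.q = 𝟙 _), ∃ W : 𝔽.T.Opens,
      a (IsLocalRing.closedPoint k) ∈ W ∧ ∀ (b : Spec (CommRingCat.of k) ⟶ 𝔽.T) (hb : b ≫ 𝔽.q = 𝟙 _),
        b (IsLocalRing.closedPoint k) ∈ W →
          PicF.cl (Pic13.fibreMod k X 𝔽.q b hb 𝔽.M) = PicF.cl (Pic13.fibreMod k X 𝔽.q a ha 𝔽.M) := fun a ha => by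
    have hA : PicF.IsInvertible (Pic13.fibreMod k X 𝔽.q a ha 𝔽.M) := PicClLib.isInvertible_pullback _ 𝔽.inv
    obtain ⟨N, hN, ⟨ε⟩⟩ := H23.PicInv.exists_inverse hA
    have hAN : PicF.cl (Pic13.fibreMod k X 𝔽.q a ha 𝔽.M) * PicF.cl N = 1 := Big.cl_mul_eq_one ⟨ε⟩
    obtain ⟨e⟩ : Nonempty (Coh.structureModule X ≅
        Pic13.fibreMod k X 𝔽.q a ha (CohB1.tensorMod 𝔽.M ((Scheme.Modules.pullback p₁).obj N))) :=
      cl_eq_iff.1 (by rw [hcl, hAN, H23.PicMul.one_def])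
    obtain ⟨W, haW, hW⟩ := exists_nhd_triv pr
      (InvX.isInvertible_tensorMod 𝔽.inv (PicClLib.isInvertible_pullback p₁ hN))
      (NumTau.isPullback_slice 𝔽.q a ha) 𝔽.q ha e h1
    refine ⟨W, haW, fun b hb hbW => ?_⟩
    obtain ⟨φ⟩ := hW (Pic13.sliceAt k X 𝔽.q b hb) fun z => by
      have e1 : Pic13.sliceAt k X 𝔽.q b hb ≫ pr = (X ↘ Spec (CommRingCat.of k)) ≫ b := pullback.lift_snd _ _ _
      rw [← Scheme.Hom.comp_apply, e1, Scheme.Hom.comp_apply]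
      convert hbW
      exact Subsingleton.elim _ _
    have e2 : PicF.cl (Pic13.fibreMod k X 𝔽.q b hb 𝔽.M) * PicF.cl N = 1 := by
      rw [← hcl]
      exact cl_eq_iff.2 ⟨φ⟩
    calc PicF.cl (Pic13.fibreMod k X 𝔽.q b hb 𝔽.M)
        = PicF.cl (Pic13.fibreMod k X 𝔽.q b hb 𝔽.M) * (PicF.cl (Pic13.fibreMod k X 𝔽.q a ha 𝔽.M) * PicF.cl N) := by
          rw [hAN, mul_one]
      _ = PicF.cl (Pic13.fibreMod k X 𝔽.q b hb 𝔽.M) * PicF.cl N * PicF.cl (Pic13.fibreMod k X 𝔽.q a ha 𝔽.M) := by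
          ac_rfl
      _ = _ := by rw [e2, one_mul]
  choose W hWm hW using key
  obtain ⟨t, ht, ⟨e⟩⟩ := h
  obtain ⟨t', ht', ⟨e'⟩⟩ := h'
  let O : Set 𝔽.T := ⋃ (a : Spec (CommRingCat.of k) ⟶ 𝔽.T) (ha : a ≫ 𝔽.q = 𝟙 _)
    (_ : PicF.cl (Pic13.fibreMod k X 𝔽.q a ha 𝔽.M) = PicF.cl L), (W a ha : Set 𝔽.T)
  let O' : Set 𝔽.T := ⋃ (a : Spec (CommRingCat.of k) ⟶ 𝔽.T) (ha : a ≫ 𝔽.q = 𝟙 _)
    (_ : PicF.cl (Pic13.fibreMod k X 𝔽.q a ha 𝔽.M) ≠ PicF.cl L), (W a ha : Set 𝔽.T)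
  have hO : IsOpen O := isOpen_iUnion fun a => isOpen_iUnion fun ha => isOpen_iUnion fun _ => (W a ha).2
  have hO' : IsOpen O' := isOpen_iUnion fun a => isOpen_iUnion fun ha => isOpen_iUnion fun _ => (W a ha).2
  have hpt : ∀ z : 𝔽.T, IsClosed ({z} : Set 𝔽.T) → ∃ (b : Spec (CommRingCat.of k) ⟶ 𝔽.T) (hb : b ≫ 𝔽.q = 𝟙 _),
      b (IsLocalRing.closedPoint k) = z := fun z hz => by
    obtain ⟨⟨s, hs⟩, h⟩ := (pointEquivClosedPoint 𝔽.q).surjective ⟨z, hz⟩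
    exact ⟨s, hs, congrArg Subtype.val h⟩
  have hcov : O ∪ O' = Set.univ := by
    by_contra hne
    have hc : IsClosed (O ∪ O')ᶜ := (hO.union hO').isClosed_compl
    obtain ⟨z, hz, hzc⟩ := nonempty_inter_closedPoints (Set.nonempty_compl.2 hne) hc.isLocallyClosed
    obtain ⟨b, hb, rfl⟩ := hpt z (mem_closedPoints_iff.1 hzc)
    refine hz ?_
    by_cases hbL : PicF.cl (Pic13.fibreMod k X 𝔽.q b hb 𝔽.M) = PicF.cl L
    · exact Or.inl (Set.mem_iUnion.2 ⟨b, Set.mem_iUnion.2 ⟨hb, Set.mem_iUnion.2 ⟨hbL, hWm b hb⟩⟩⟩)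
    · exact Or.inr (Set.mem_iUnion.2 ⟨b, Set.mem_iUnion.2 ⟨hb, Set.mem_iUnion.2 ⟨hbL, hWm b hb⟩⟩⟩)
  have hdisj : O ∩ O' = ∅ := by
    by_contra hne
    obtain ⟨z, ⟨hz, hz'⟩, hzc⟩ := nonempty_inter_closedPoints (Set.nonempty_iff_ne_empty.2 hne)
      (hO.inter hO').isLocallyClosed
    obtain ⟨b, hb, rfl⟩ := hpt z (mem_closedPoints_iff.1 hzc)
    simp only [O, O', Set.mem_iUnion] at hz hz'
    obtain ⟨a, ha, haL, hza⟩ := hz
    obtain ⟨a', ha', haL', hza'⟩ := hz'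
    exact haL' (((hW a' ha' b hb hza').symm.trans (hW a ha b hb hza)).trans haL)
  have hclopen : IsClopen O := ⟨isOpen_compl_iff.1 ((show Oᶜ = O' from Set.ext fun z =>
    ⟨fun hz => (hcov.ge (Set.mem_univ z)).resolve_left hz, fun hz hz' => hdisj.le ⟨hz', hz⟩⟩).symm ▸ hO'), hO⟩
  have ht'O : t' (IsLocalRing.closedPoint k) ∈ O := (hclopen.eq_univ ⟨_, Set.mem_iUnion.2 ⟨t, Set.mem_iUnion.2
    ⟨ht, Set.mem_iUnion.2 ⟨cl_eq_iff.2 ⟨e⟩, hWm t ht⟩⟩⟩⟩).ge (Set.mem_univ _)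
  simp only [O, Set.mem_iUnion] at ht'O
  obtain ⟨a, ha, haL, hta⟩ := ht'O
  rw [← haL, ← hW a ha t' ht' hta]
  exact cl_eq_iff.2 ⟨e'⟩

/-- Without first cohomology numerically trivial classes are torsion. -/
theorem exists_pow_trivial (h1 : Subsingleton (Coh.HH X (Coh.structureModule X) 1)) {L : X.Modules}
    (hL : NumTau.NT k L) : ∃ d : ℕ, 0 < d ∧ PicF.cl L ^ d = 1 := by
  obtain ⟨N, 𝔽, h𝔽⟩ := ThmA.exists_families_nt_proper (k := k) (X := X)
  choose j hj using fun m : ℕ => h𝔽 _ (hL.pow m)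
  obtain ⟨a, b, hne, hab⟩ := Finite.exists_ne_map_eq_of_infinite j
  have key : ∀ a b, a < b → j a = j b → ∃ d : ℕ, 0 < d ∧ PicF.cl L ^ d = 1 := fun a b h hab => by
    refine ⟨b - a, by omega, ?_⟩
    have e := cl_eq_of_mem h1 (𝔽 (j b)) (hj b) (hab ▸ hj a)
    rw [cl_tensorPow, cl_tensorPow] at e
    obtain ⟨L', -, hLL'⟩ := hL.inv
    have hu : IsUnit (PicF.cl L ^ a) := (IsUnit.of_mul_eq_one _ hLL').pow a
    refine hu.mul_left_cancel ?_
    rw [← pow_add, mul_one, show a + (b - a) = b by omega, e]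
  rcases Nat.lt_or_ge a b with h | h
  · exact key a b h hab
  · exact key b a (lt_of_le_of_ne h (Ne.symm hne)) hab.symm

end Closed

/-- The statement over an arbitrary field. -/
theorem exists_tensorPow_trivial (k : Type u) [Field k] (X : Scheme.{u}) [X.Over (Spec (CommRingCat.of k))]
    [IsProper (X ↘ Spec (CommRingCat.of k))] (h1 : Subsingleton (Coh.HH X (Coh.structureModule X) 1))
    (L : X.Modules) (hL : PicF.IsInvertible L) (hnum : Pic13.IsNumEquivZero k X L) :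
    ∃ d : ℕ, 0 < d ∧ Nonempty (CohB1.tensorPow L d ≅ Coh.structureModule X) := by
  let K := AlgebraicClosure k
  haveI := CurveCohLib.isNoetherian_of_proper (k := k) (X := X)
  letI : (Curv2.bc k X K).Over (Spec (CommRingCat.of K)) := ⟨Curv2.bcSnd k X K⟩
  haveI : IsProper ((Curv2.bc k X K) ↘ Spec (CommRingCat.of K)) := inferInstanceAs (IsProper (Curv2.bcSnd k X K))
  obtain ⟨ε⟩ := PicClLib.nonempty_pullback_structureModule (Curv2.bcFst k X K)
  have h1K : Subsingleton (Coh.HH (Curv2.bc k X K) (Coh.structureModule (Curv2.bc k X K)) 1) :=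
    QCoh.subsingleton_HH_of_iso ε 1 ((CohBasic.subsingleton_HH_bc_iff k X K QCoh.isQCoh_structureModule 1).2 h1)
  have hLK := PicClLib.isInvertible_pullback (Curv2.bcFst k X K) hL
  obtain ⟨d, hd, hd1⟩ := exists_pow_trivial h1K
    (NumTau.nt_of_numEquivZero hLK ((NumTau.numEquivZero_bc_iff k X L hL K).1 hnum))
  refine ⟨d, hd, ParaFX.PicField.pullback_trivial (X := X) k
    (CurveCohLib.finite_HH (k := k) (QCoh.isCoh_structureModule' (X := X)) 0) K (Curv2.bc k X K)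
    (Curv2.bcFst k X K) (Curv2.bcSnd k X K) (IsPullback.of_hasPullback _ _) _
    (InvX.isInvertible_tensorPow hL d) (cl_eq_iff.1 ?_)⟩
  show PicF.pullCl _ (PicF.cl (CohB1.tensorPow L d)) = _
  rw [cl_tensorPow, pullCl_pow, ← H23.PicMul.one_def]
  exact hd1

end Groth.Agent.PicRig

end
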